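import Cfsg.Agent.J4NonLocal.LTwo.Field
import Cfsg.Agent.Known.SL2Pres.Even

/-!
Recognition of L₂(32):5 from relations on four elements.
-/

set_option autoImplicit false
set_option linter.style.haveILetI false

namespace Cfsg.Lib.J4NonLocal.LTwo

open Cfsg.Lib.SL2Pres
open Matrix (SpecialLinearGroup ProjectiveSpecialLinearGroup)

variable {G : Type*} [Group G]

/-- The relations of the linear group: a translation, a dilation and the swap. -/
structure RelL (u t w : G) : Prop where
  u_sq : u * u = 1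
  t_pow : t ^ 31 = 1
  w_sq : w * w = 1
  w_t : w * t * w * t = 1
  u_comm : ∀ i : Fin 4, u * (t ^ (i.val + 1) * u * t ^ (30 - i.val)) = t ^ (i.val + 1) * u * t ^ (30 - i.val) * u
  t_poly : t ^ 5 * u * t ^ 26 = u * (t ^ 2 * u * t ^ 29)
  braid : w * u * w = u * w * u

/-- The relations with the field automorphism. -/
structure RelThirtyTwo (u t w f : G) : Prop where
  lin : RelL u t w
  f_pow : f ^ 5 = 1
  f_u : f * u = u * f
  f_w : f * w = w * f
  f_t : f * t = t ^ 2 * f

namespace RelL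

variable {u t w : G} (R : RelL u t w)

/-- A conjugate of the translation. -/
def cu (u t : G) (i : ℕ) : G := t ^ i * u * (t ^ i)⁻¹

include R in
theorem inv_pow (i : ℕ) (hi : i ≤ 31) : (t ^ i)⁻¹ = t ^ (31 - i) :=
  inv_eq_of_mul_eq_one_right (by rw [← pow_add, Nat.add_sub_cancel' hi, R.t_pow])

include R in
theorem comm_zero (i : ℕ) (hi : i ≤ 4) : Commute u (cu u t i) := by
  rcases Nat.eq_zero_or_pos i with rfl | h
  · simp [cu]
  · obtain ⟨j, rfl⟩ : ∃ j, i = j + 1 := ⟨i - 1, by omega⟩
    have := R.u_comm ⟨j, by omega⟩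
    rw [cu, R.inv_pow _ (by omega), show 31 - (j + 1) = 30 - j by omega]
    exact this

include R in
theorem comm {i j : ℕ} (hi : i ≤ 4) (hj : j ≤ 4) : Commute (cu u t i) (cu u t j) := by
  wlog h : i ≤ j
  · exact (this R hj hi (by omega)).symm
  obtain ⟨k, rfl⟩ := Nat.exists_eq_add_of_le h
  have e : cu u t (i + k) = t ^ i * cu u t k * (t ^ i)⁻¹ := by simp [cu, pow_add, mul_assoc]
  rw [e]
  exact commute_conj (R.comm_zero k (by omega))

include R in
theorem cu_five : cu u t 5 = u * cu u t 2 := by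
  rw [cu, cu, R.inv_pow 5 (by norm_num), R.inv_pow 2 (by norm_num)]
  exact R.t_poly

theorem cu_succ (i : ℕ) : t * cu u t i * t⁻¹ = cu u t (i + 1) := by
  simp [cu, pow_succ', mul_assoc]

include R in
theorem cu_sq (i : ℕ) : cu u t i * cu u t i = 1 := by
  have e : cu u t i * cu u t i = t ^ i * (u * u) * (t ^ i)⁻¹ := by simp [cu, mul_assoc]
  rw [e, R.u_sq]; simp

/-- A power with exponent modulo two. -/
def pz (g : G) (a : ZMod 2) : G := g ^ a.val

theorem pz_zero (g : G) : pz g 0 = 1 := by simp [pz]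

theorem pz_one (g : G) : pz g 1 = g := by simp [pz, ZMod.val_one]

theorem pz_add {g : G} (hg : g * g = 1) (a b : ZMod 2) : pz g (a + b) = pz g a * pz g b := by
  unfold pz
  rw [← pow_add, ZMod.val_add, ← pow_eq_pow_mod _ (by rw [pow_two, hg])]

/-- The root map. -/
def phi (u t : G) (x : F32) : G :=
  pz (cu u t 0) (bit 0 x) * pz (cu u t 1) (bit 1 x) * pz (cu u t 2) (bit 2 x) * pz (cu u t 3) (bit 3 x) *
    pz (cu u t 4) (bit 4 x)

include R in
theorem pz_comm {i j : ℕ} (hi : i ≤ 4) (hj : j ≤ 4) (a b : ZMod 2) :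
    Commute (pz (cu u t i) a) (pz (cu u t j) b) := (R.comm hi hj).pow_pow _ _

include R in
theorem phi_add (x y : F32) : phi u t (x + y) = phi u t x * phi u t y := by
  have c := fun {i j : ℕ} (hi : i ≤ 4) (hj : j ≤ 4) (a b : ZMod 2) => R.pz_comm hi hj a b
  unfold phi
  have e : ∀ i : ℕ, i < 5 → bit i (x + y) = bit i x + bit i y := fun i hi => bit_add ⟨i, hi⟩ x y
  rw [e 0 (by norm_num), e 1 (by norm_num), e 2 (by norm_num), e 3 (by norm_num), e 4 (by norm_num),
    pz_add (R.cu_sq 0), pz_add (R.cu_sq 1), pz_add (R.cu_sq 2), pz_add (R.cu_sq 3), pz_add (R.cu_sq 4)]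
  generalize bit 0 x = a0, bit 1 x = a1, bit 2 x = a2, bit 3 x = a3, bit 4 x = a4
  generalize bit 0 y = b0, bit 1 y = b1, bit 2 y = b2, bit 3 y = b3, bit 4 y = b4
  have d1 := c (i := 1) (j := 0) (by norm_num) (by norm_num) a1 b0
  have d2 : Commute (pz (cu u t 2) a2) (pz (cu u t 0) b0 * pz (cu u t 1) b1) :=
    (c (by norm_num) (by norm_num) _ _).mul_right (c (by norm_num) (by norm_num) _ _)
  have d3 : Commute (pz (cu u t 3) a3) (pz (cu u t 0) b0 * pz (cu u t 1) b1 * pz (cu u t 2) b2) :=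
    ((c (by norm_num) (by norm_num) _ _).mul_right (c (by norm_num) (by norm_num) _ _)).mul_right
      (c (by norm_num) (by norm_num) _ _)
  have d4 : Commute (pz (cu u t 4) a4) (pz (cu u t 0) b0 * pz (cu u t 1) b1 * pz (cu u t 2) b2 * pz (cu u t 3) b3) :=
    (((c (by norm_num) (by norm_num) _ _).mul_right (c (by norm_num) (by norm_num) _ _)).mul_right
      (c (by norm_num) (by norm_num) _ _)).mul_right (c (by norm_num) (by norm_num) _ _)
  rw [d4.mul_mul_mul_comm, d3.mul_mul_mul_comm, d2.mul_mul_mul_comm, d1.mul_mul_mul_comm]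

include R in
theorem phi_conj (x : F32) : t * phi u t x * t⁻¹ = phi u t (rho * x) := by
  obtain ⟨e0, e1, e2, e3, e4⟩ := bit_rho x
  have h : ∀ (i : ℕ) (a : ZMod 2), t * pz (cu u t i) a * t⁻¹ = pz (cu u t (i + 1)) a := fun i a => by
    rw [← cu_succ]; exact (conj_pow ..).symm
  have c := fun {i j : ℕ} (hi : i ≤ 4) (hj : j ≤ 4) (a b : ZMod 2) => R.pz_comm hi hj a b
  unfold phi
  rw [e0, e1, e2, e3, e4]
  generalize bit 0 x = b0, bit 1 x = b1, bit 2 x = b2, bit 3 x = b3, bit 4 x = b4
  have e : t * (pz (cu u t 0) b0 * pz (cu u t 1) b1 * pz (cu u t 2) b2 * pz (cu u t 3) b3 * pz (cu u t 4) b4) * t⁻¹ =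
      pz (cu u t 1) b0 * pz (cu u t 2) b1 * pz (cu u t 3) b2 * pz (cu u t 4) b3 * pz (cu u t 5) b4 := by
    rw [← h 0 b0, ← h 1 b1, ← h 2 b2, ← h 3 b3, ← h 4 b4]; group
  rw [e, R.cu_five, show u = cu u t 0 by simp [cu]]
  have hp : pz (cu u t 0 * cu u t 2) b4 = pz (cu u t 0) b4 * pz (cu u t 2) b4 :=
    (R.comm (by norm_num) (by norm_num)).mul_pow _
  have m0 : Commute (pz (cu u t 1) b0 * pz (cu u t 2) b1 * pz (cu u t 3) b2 * pz (cu u t 4) b3) (pz (cu u t 0) b4) :=
    (((c (by norm_num) (by norm_num) _ _).mul_left (c (by norm_num) (by norm_num) _ _)).mul_left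
      (c (by norm_num) (by norm_num) _ _)).mul_left (c (by norm_num) (by norm_num) _ _)
  have m2 : Commute (pz (cu u t 3) b2 * pz (cu u t 4) b3) (pz (cu u t 2) b4) :=
    (c (by norm_num) (by norm_num) _ _).mul_left (c (by norm_num) (by norm_num) _ _)
  simp only [cu, pow_zero, one_mul, inv_one, mul_one] at hp m0 m2 ⊢
  rw [hp]
  rw [pz_add (by simpa [cu] using R.cu_sq 2)]
  generalize t ^ 1 * u * (t ^ 1)⁻¹ = z1 at m0 ⊢
  generalize t ^ 2 * u * (t ^ 2)⁻¹ = z2 at m0 m2 ⊢
  generalize t ^ 3 * u * (t ^ 3)⁻¹ = z3 at m0 m2 ⊢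
  generalize t ^ 4 * u * (t ^ 4)⁻¹ = z4 at m0 m2 ⊢
  calc pz z1 b0 * pz z2 b1 * pz z3 b2 * pz z4 b3 * (pz u b4 * pz z2 b4)
      = pz z1 b0 * pz z2 b1 * pz z3 b2 * pz z4 b3 * pz u b4 * pz z2 b4 := by simp only [mul_assoc]
    _ = pz u b4 * (pz z1 b0 * pz z2 b1 * (pz z3 b2 * pz z4 b3 * pz z2 b4)) := by rw [m0.eq]; simp only [mul_assoc]
    _ = _ := by rw [m2.eq]; simp only [mul_assoc]

theorem phi_one : phi u t (1 : F32) = u := by
  obtain ⟨e0, e1, e2, e3, e4⟩ := bit_one
  simp only [phi, e0, e1, e2, e3, e4, pz_zero, pz_one, mul_one]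
  simp [cu]

include R in
theorem bound_card (hcl : Subgroup.closure ({t, u, w} : Set G) = ⊤) : Finite G ∧ Nat.card G ≤ 32736 := by
  have hw : w⁻¹ = w := inv_eq_of_mul_eq_one_right R.w_sq
  have h := even_group (φ := phi u t) (h := t) (u := u) (t := w) om_ne
    (fun x hx => (om_gen x hx).imp' Fin.val fun _ h => h) (N := 31) (by decide) om_pow R.phi_add
    (fun x => by rw [R.phi_conj, om_sq]) phi_one R.w_sq
    (by rw [hw]; exact eq_inv_of_mul_eq_one_left R.w_t)
    (by
      rw [hw]
      calc u * w * u * w * u = u * (w * u * w) * u := by simp only [mul_assoc]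
        _ = (u * u) * w * (u * u) := by rw [R.braid]; simp only [mul_assoc]
        _ = w := by rw [R.u_sq, one_mul, mul_one])
    R.t_pow hcl
  rwa [card32] at h

end RelL

theorem card_sl32 : Nat.card (SpecialLinearGroup (Fin 2) F32) = 32736 := by
  have h := Cfsg.Lib.Classical.card_SL_mul_eq_prod (F := F32) (n := 2) (by norm_num)
  simp only [card32, Fin.prod_univ_two, Fin.val_zero, Fin.val_one] at h
  refine Nat.eq_of_mul_eq_mul_left (show 0 < 32 - 1 by norm_num) ?_
  rw [h]
  norm_num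

theorem relL_mat : RelL (mU (1 : F32)) (mH om_ne) mT := by
  refine ⟨?_, ?_, ?_, ?_, ?_, ?_, ?_⟩
  all_goals first
    | (intro i; fin_cases i <;> exact Subtype.ext (by decide +kernel))
    | exact Subtype.ext (by decide +kernel)

/-- The homomorphism from the matrix group. -/
theorem exists_hom {u t w : G} (R : RelL u t w) : ∃ φ : SpecialLinearGroup (Fin 2) F32 →* G,
    φ (mU 1) = u ∧ φ (mH om_ne) = t ∧ φ mT = w ∧ φ.range = Subgroup.closure {t, u, w} := by
  let T := SpecialLinearGroup (Fin 2) F32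
  let U : T × G := (mU 1, u)
  let H : T × G := (mH om_ne, t)
  let W : T × G := (mT, w)
  let S : Subgroup (T × G) := Subgroup.closure {H, U, W}
  let vu : S := ⟨U, Subgroup.subset_closure (by simp)⟩
  let vt : S := ⟨H, Subgroup.subset_closure (by simp)⟩
  let vw : S := ⟨W, Subgroup.subset_closure (by simp)⟩
  let fst : S →* T := (MonoidHom.fst _ _).comp S.subtype
  let snd : S →* G := (MonoidHom.snd _ _).comp S.subtype
  have M := relL_mat
  have hpair : ∀ x y : S, fst x = fst y → snd x = snd y → x = y := fun x y h h' => Subtype.ext (Prod.ext h h')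
  have RS : RelL vu vt vw := by
    refine ⟨hpair _ _ ?_ ?_, hpair _ _ ?_ ?_, hpair _ _ ?_ ?_, hpair _ _ ?_ ?_, fun i => hpair _ _ ?_ ?_,
      hpair _ _ ?_ ?_, hpair _ _ ?_ ?_⟩ <;> simp only [map_mul, map_pow, map_one]
    exacts [M.u_sq, R.u_sq, M.t_pow, R.t_pow, M.w_sq, R.w_sq, M.w_t, R.w_t, M.u_comm i, R.u_comm i, M.t_poly,
      R.t_poly, M.braid, R.braid]
  have hcl : Subgroup.closure ({vt, vu, vw} : Set S) = ⊤ := by
    have key : S ≤ (Subgroup.closure ({vt, vu, vw} : Set S)).map S.subtype := by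
      refine (Subgroup.closure_le _).2 ?_
      rintro y (rfl | rfl | rfl)
      · exact ⟨vt, Subgroup.subset_closure (Or.inl rfl), rfl⟩
      · exact ⟨vu, Subgroup.subset_closure (Or.inr (Or.inl rfl)), rfl⟩
      · exact ⟨vw, Subgroup.subset_closure (Or.inr (Or.inr rfl)), rfl⟩
    refine eq_top_iff.2 fun x _ => ?_
    obtain ⟨y, hy, e⟩ := key x.2
    have ex : y = x := Subtype.ext e
    rwa [ex] at hy
  obtain ⟨hfin, hcard⟩ := RS.bound_card hcl
  have hsurj : Function.Surjective fst := by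
    rw [← MonoidHom.range_eq_top, eq_top_iff, ← mat_closure (F := F32) om_ne
      (fun x hx => (om_gen x hx).imp' Fin.val fun _ h => h), Subgroup.closure_le]
    rintro _ ⟨i, rfl⟩
    fin_cases i
    exacts [⟨vt, rfl⟩, ⟨vu, rfl⟩, ⟨vw, rfl⟩]
  haveI := hfin
  have hbij : Function.Bijective fst := (Nat.bijective_iff_surjective_and_card fst).2
    ⟨hsurj, le_antisymm (by rw [card_sl32]; exact hcard) (Nat.card_le_card_of_surjective fst hsurj)⟩
  let e : S ≃* T := MulEquiv.ofBijective fst hbij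
  let φ : T →* G := snd.comp e.symm.toMonoidHom
  have hφ : ∀ x : S, φ (fst x) = snd x := fun x => congrArg snd (e.symm_apply_apply x)
  refine ⟨φ, hφ vu, hφ vt, hφ vw, ?_⟩
  rw [MonoidHom.range_eq_map, ← Subgroup.map_map, Subgroup.map_top_of_surjective _ e.symm.surjective,
    ← MonoidHom.range_eq_map, MonoidHom.range_comp, Subgroup.range_subtype, MonoidHom.map_closure]
  congr 1
  simp [Set.image_insert_eq, U, H, W]

/-- An element of prime order that normalises and lies outside gives that index. -/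
theorem exists_index_prime {p : ℕ} [Fact p.Prime] (S : Set G) (σ : G)
    (hn : σ ∈ Subgroup.normalizer (Subgroup.closure S : Set G)) (hp : σ ^ p = 1) (hσ : σ ∉ Subgroup.closure S) :
    ∃ K : Subgroup ↥(Subgroup.closure (insert σ S)), K.Normal ∧ K.index = p ∧
      Nonempty (↥K ≃* ↥(Subgroup.closure S)) := by
  set H := Subgroup.closure S
  set M := Subgroup.closure (insert σ S)
  have hle : H ≤ M := Subgroup.closure_mono (Set.subset_insert _ _)
  have hN : M ≤ Subgroup.normalizer (H : Set G) := (Subgroup.closure_le _).2 (Set.insert_subset hn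
    fun x hx => Subgroup.le_normalizer (Subgroup.subset_closure hx))
  let K : Subgroup M := H.subgroupOf M
  haveI hK : K.Normal := (Subgroup.normal_subgroupOf_iff_le_normalizer hle).2 hN
  let s : M := ⟨σ, Subgroup.subset_closure (Set.mem_insert _ _)⟩
  let q : M →* M ⧸ K := QuotientGroup.mk' K
  have hs : orderOf (q s) = p := orderOf_eq_prime (by
      rw [← map_pow]
      exact (QuotientGroup.eq_one_iff _).2 (by
        rw [Subgroup.mem_subgroupOf, SubmonoidClass.coe_pow]
        show σ ^ p ∈ H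
        rw [hp]; exact one_mem H)) fun h => hσ ((QuotientGroup.eq_one_iff s).1 h)
  have htop : Subgroup.zpowers (q s) = ⊤ := by
    refine eq_top_iff.2 fun y _ => ?_
    obtain ⟨x, rfl⟩ := QuotientGroup.mk'_surjective K y
    have key : M ≤ ((Subgroup.zpowers (q s)).comap q).map M.subtype := (Subgroup.closure_le _).2 (by
      rintro z (rfl | hz)
      · exact ⟨s, Subgroup.mem_zpowers _, rfl⟩
      · refine ⟨⟨z, hle (Subgroup.subset_closure hz)⟩, ?_, rfl⟩
        show q _ ∈ Subgroup.zpowers (q s)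
        rw [show q ⟨z, hle (Subgroup.subset_closure hz)⟩ = 1 from
          (QuotientGroup.eq_one_iff _).2 (Subgroup.mem_subgroupOf.2 (Subgroup.subset_closure hz))]
        exact one_mem _)
    obtain ⟨a, ha, e⟩ := key x.2
    have : a = x := Subtype.ext e
    subst this; exact ha
  refine ⟨K, hK, ?_, ⟨Subgroup.subgroupOfEquivOfLe hle⟩⟩
  rw [Subgroup.index, ← Subgroup.card_top, ← htop, Nat.card_zpowers, hs]

/-- Four elements with these relations generate L₂(32):5. -/
theorem exists_psl_thirty_two {u t w f : G} (R : RelThirtyTwo u t w f) (h1 : u ≠ 1) :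
    ∃ (K : Subgroup ↥(Subgroup.closure ({f, t, u, w} : Set G))) (F : Type) (_ : Field F) (_ : Fintype F),
      Fintype.card F = 32 ∧ K.Normal ∧ K.index = 5 ∧ Nonempty (↥K ≃* ProjectiveSpecialLinearGroup (Fin 2) F) := by
  obtain ⟨φ, hu, ht, hw, hr⟩ := exists_hom R.lin
  have hc : Subgroup.center (SpecialLinearGroup (Fin 2) F32) = ⊥ := by
    refine (Subgroup.eq_bot_iff_forall _).2 fun z hz => ?_
    obtain ⟨a, ha, hza⟩ := Matrix.SpecialLinearGroup.mem_center_iff.1 hz
    rw [Fintype.card_fin, pow_two] at ha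
    have : a = 1 := by
      rcases mul_self_eq_one_iff.1 ha with h | h
      · exact h
      · rw [h, CharTwo.neg_eq]
    refine Subtype.ext ?_
    rw [← hza, this]; simp
  haveI : IsSimpleGroup (ProjectiveSpecialLinearGroup (Fin 2) F32) :=
    Matrix.ProjectiveSpecialLinearGroup.rank_two_simple (by rw [Nat.card_eq_fintype_card, card32]; norm_num)
  let e : ProjectiveSpecialLinearGroup (Fin 2) F32 ≃* SpecialLinearGroup (Fin 2) F32 :=
    (QuotientGroup.quotientMulEquivOfEq hc).trans QuotientGroup.quotientBot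
  have hinj : Function.Injective φ := by
    haveI : IsSimpleGroup (SpecialLinearGroup (Fin 2) F32) := e.symm.isSimpleGroup
    rw [← MonoidHom.ker_eq_bot_iff]
    rcases (MonoidHom.normal_ker φ).eq_bot_or_eq_top with h | h
    · exact h
    · have : mU (1 : F32) ∈ φ.ker := h ▸ Subgroup.mem_top _
      exact absurd (hu.symm.trans this) h1
  have hf : f ∈ Subgroup.normalizer (Subgroup.closure ({t, u, w} : Set G) : Set G) := by
    have hcc : ∀ n : ℕ, ∀ x ∈ Subgroup.closure ({t, u, w} : Set G),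
        f ^ n * x * (f ^ n)⁻¹ ∈ Subgroup.closure ({t, u, w} : Set G) := by
      have h0 : ∀ x ∈ Subgroup.closure ({t, u, w} : Set G), f * x * f⁻¹ ∈ Subgroup.closure ({t, u, w} : Set G) := by
        have hle : Subgroup.closure ({t, u, w} : Set G) ≤
            (Subgroup.closure ({t, u, w} : Set G)).comap (MulAut.conj f).toMonoidHom := by
          refine (Subgroup.closure_le _).2 ?_
          intro x hx
          show f * x * f⁻¹ ∈ Subgroup.closure ({t, u, w} : Set G)
          rcases hx with hx | hx | hx <;> subst x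
          · rw [R.f_t, mul_inv_cancel_right]; exact pow_mem (Subgroup.subset_closure (by simp)) 2
          · rw [R.f_u, mul_inv_cancel_right]; exact Subgroup.subset_closure (by simp)
          · rw [R.f_w, mul_inv_cancel_right]; exact Subgroup.subset_closure (by simp)
        exact fun x hx => hle hx
      intro n
      induction n with
      | zero => simp
      | succ n ih =>
        intro x hx
        have e : f ^ (n + 1) * x * (f ^ (n + 1))⁻¹ = f * (f ^ n * x * (f ^ n)⁻¹) * f⁻¹ := by
          rw [pow_succ']; group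
        rw [e]; exact h0 _ (ih x hx)
    rw [Subgroup.mem_normalizer_iff]
    refine fun x => ⟨fun hx => by simpa using hcc 1 x hx, fun hx => ?_⟩
    have e : x = f ^ 4 * (f * x * f⁻¹) * (f ^ 4)⁻¹ := by
      calc x = f ^ 5 * x * (f ^ 5)⁻¹ := by rw [R.f_pow]; simp
        _ = _ := by group
    rw [e]; exact hcc 4 _ hx
  have hnot : f ∉ Subgroup.closure ({t, u, w} : Set G) := by
    rw [← hr]
    rintro ⟨g, rfl⟩
    have e1 : g * mU 1 = mU 1 * g := hinj (by rw [map_mul, map_mul, hu]; exact R.f_u)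
    have e2 : g * mT = mT * g := hinj (by rw [map_mul, map_mul, hw]; exact R.f_w)
    have hg : g = 1 := by
      have a1 := congrArg (fun m : SpecialLinearGroup (Fin 2) F32 => (m : Matrix (Fin 2) (Fin 2) F32)) e1
      have a2 := congrArg (fun m : SpecialLinearGroup (Fin 2) F32 => (m : Matrix (Fin 2) (Fin 2) F32)) e2
      simp only [Matrix.SpecialLinearGroup.coe_mul, coe_mU, coe_mT, CharTwo.neg_eq] at a1 a2
      have b1 := congrFun (congrFun a1 0) 0
      have b2 := congrFun (congrFun a2 0) 0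
      have b3 := congrFun (congrFun a2 0) 1
      have hd := g.2
      simp [Matrix.mul_apply, Fin.sum_univ_two] at b1 b2 b3
      rw [Matrix.det_fin_two] at hd
      have c1 : g.1 1 0 = 0 := b1
      have c2 : g.1 0 1 = 0 := b2.trans c1
      rw [c1, c2, mul_zero, sub_zero, ← b3] at hd
      have c3 : g.1 0 0 = 1 := by
        rcases mul_self_eq_one_iff.1 hd with h | h
        · exact h
        · rw [h, CharTwo.neg_eq]
      refine Subtype.ext ?_
      ext i j
      fin_cases i <;> fin_cases j <;> simp [c1, c2, c3, ← b3]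
    have := R.f_t
    rw [hg, map_one, one_mul, mul_one, pow_two, left_eq_mul] at this
    have h2 : (mH om_ne : SpecialLinearGroup (Fin 2) F32) = 1 := hinj (by rw [ht, map_one, this])
    have h3 : (mH om_ne : SpecialLinearGroup (Fin 2) F32) ≠ 1 := fun h => by
      have := congrArg (fun m : SpecialLinearGroup (Fin 2) F32 => (m : Matrix (Fin 2) (Fin 2) F32) 0 0) h
      revert this
      decide +kernel
    exact h3 h2
  haveI : Fact (Nat.Prime 5) := ⟨by norm_num⟩
  obtain ⟨K, hK, hidx, ⟨eK⟩⟩ := exists_index_prime (p := 5) {t, u, w} f hf R.f_pow hnot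
  exact ⟨K, F32, inferInstance, inferInstance, card32, hK, hidx,
    ⟨eK.trans ((MulEquiv.subgroupCongr hr.symm).trans ((MonoidHom.ofInjective hinj).symm.trans e.symm))⟩⟩

end Cfsg.Lib.J4NonLocal.LTwo
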