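import Mathlib

/-!
A field with 32 elements on bit strings of length five, modulo X^5 + X^2 + 1.
-/

set_option autoImplicit false
set_option maxRecDepth 8000

namespace Cfsg.Lib.J4NonLocal.LTwo

/-- The field with 32 elements. -/
structure F32 where
  /-- The bits. -/
  v : Fin 32
  deriving DecidableEq

/-- The elements are numbered. -/
def F32.equiv : Fin 32 ≃ F32 where
  toFun := F32.mk
  invFun := F32.v
  left_inv _ := rfl
  right_inv _ := rfl

instance : Fintype F32 := Fintype.ofEquiv _ F32.equiv

/-- An element from a number. -/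
def F32.of (n : ℕ) : F32 := ⟨⟨n % 32, Nat.mod_lt _ (by norm_num)⟩⟩

/-- Multiplication by the root. -/
def xt (a : ℕ) : ℕ := if a < 16 then 2 * a else (2 * a - 32) ^^^ 5

/-- The product of bit strings, five steps. -/
def mulN : ℕ → ℕ → ℕ → ℕ
  | 0, _, _ => 0
  | k + 1, a, b => (if b % 2 = 1 then a else 0) ^^^ mulN k (xt a) (b / 2)

instance : Zero F32 := ⟨F32.of 0⟩
instance : One F32 := ⟨F32.of 1⟩
instance : Add F32 := ⟨fun a b => F32.of (a.v.val ^^^ b.v.val)⟩
instance : Mul F32 := ⟨fun a b => F32.of (mulN 5 a.v.val b.v.val)⟩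
instance : Neg F32 := ⟨fun a => a⟩

/-- The square. -/
def sq32 (a : F32) : F32 := a * a

instance : Inv F32 := ⟨fun a =>
  (fun a2 => (fun a4 => (fun a8 => a2 * a4 * a8 * sq32 a8) (sq32 a4)) (sq32 a2)) (sq32 a)⟩

theorem add_assoc32 : ∀ a b c : F32, a + b + c = a + (b + c) := by decide +kernel
theorem mul_assoc32 : ∀ a b c : F32, a * b * c = a * (b * c) := by decide +kernel
theorem left_distrib32 : ∀ a b c : F32, a * (b + c) = a * b + a * c := by decide +kernel
theorem zero_add32 : ∀ a : F32, 0 + a = a := by decide +kernel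
theorem add_zero32 : ∀ a : F32, a + 0 = a := by decide +kernel
theorem neg_add32 : ∀ a : F32, -a + a = 0 := by decide +kernel
theorem add_comm32 : ∀ a b : F32, a + b = b + a := by decide +kernel
theorem mul_comm32 : ∀ a b : F32, a * b = b * a := by decide +kernel
theorem one_mul32 : ∀ a : F32, 1 * a = a := by decide +kernel
theorem inv32 : ∀ a : F32, a ≠ 0 → a * a⁻¹ = 1 := by decide +kernel

instance : CommRing F32 where
  add_assoc := add_assoc32
  zero_add := zero_add32
  add_zero := add_zero32
  nsmul := nsmulRec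
  zsmul := zsmulRec
  neg_add_cancel := neg_add32
  add_comm := add_comm32
  mul_assoc := mul_assoc32
  one_mul := one_mul32
  mul_one a := by rw [mul_comm32, one_mul32]
  left_distrib := left_distrib32
  right_distrib a b c := by rw [mul_comm32, left_distrib32, mul_comm32 c, mul_comm32 c]
  zero_mul := by decide +kernel
  mul_zero := by decide +kernel
  mul_comm := mul_comm32

instance : Field F32 where
  exists_pair_ne := ⟨0, 1, by decide +kernel⟩
  mul_inv_cancel := inv32
  inv_zero := by decide +kernel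
  nnqsmul := _
  nnqsmul_def := fun _ _ => rfl
  qsmul := _
  qsmul_def := fun _ _ => rfl

theorem card32 : Fintype.card F32 = 32 := by
  rw [← Fintype.card_congr F32.equiv, Fintype.card_fin]

instance : CharP F32 2 := CharTwo.of_one_ne_zero_of_two_eq_zero one_ne_zero (by
  show (2 : F32) = 0
  rw [← one_add_one_eq_two]; decide +kernel)

/-- The root. -/
def rho : F32 := F32.of 2

/-- The square root of the root. -/
def om : F32 := F32.of 2 ^ 16

theorem om_sq : om ^ 2 = rho := by decide +kernel

theorem om_ne : om ≠ 0 := by decide +kernel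

theorem om_gen : ∀ x : F32, x ≠ 0 → ∃ k : Fin 31, om ^ (k : ℕ) = x := by decide +kernel

theorem om_pow : om ^ 31 = 1 := by decide +kernel

/-- A coefficient. -/
def bit (i : ℕ) (x : F32) : ZMod 2 := if Nat.testBit x.v.val i then 1 else 0

theorem bit_add : ∀ i : Fin 5, ∀ x y : F32, bit i (x + y) = bit i x + bit i y := by decide +kernel

theorem bit_rho : ∀ x : F32, bit 0 (rho * x) = bit 4 x ∧ bit 1 (rho * x) = bit 0 x ∧
    bit 2 (rho * x) = bit 1 x + bit 4 x ∧ bit 3 (rho * x) = bit 2 x ∧ bit 4 (rho * x) = bit 3 x := by decide +kernel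

theorem bit_one : bit 0 (1 : F32) = 1 ∧ bit 1 (1 : F32) = 0 ∧ bit 2 (1 : F32) = 0 ∧ bit 3 (1 : F32) = 0 ∧
    bit 4 (1 : F32) = 0 := by decide +kernel

end Cfsg.Lib.J4NonLocal.LTwo
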